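import Cfsg.Agent.Lib.Chevalley.TorusCard
import Cfsg.Agent.Lib.Chevalley.ExtraData

/-! Smith normal forms of the seven Cartan matrices. -/

set_option autoImplicit false
set_option maxRecDepth 100000

namespace CfsgLib.Chevalley

open Cfsg.Lie

variable {F : Type*} [Field F]

theorem smithG2 : smithB (cartanMat chevG2)
    (fun i j => (([[0, -1], [1, 2]] : List (List ℤ)).getD i.val []).getD j.val 0)
    (fun i j => (([[2, 1], [-1, 0]] : List (List ℤ)).getD i.val []).getD j.val 0)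
    (fun i j => (([[1, 2], [0, 1]] : List (List ℤ)).getD i.val []).getD j.val 0)
    (fun i j => (([[1, -2], [0, 1]] : List (List ℤ)).getD i.val []).getD j.val 0)
    (fun i => ([1, 1] : List ℕ).getD i.val 0) = true := by decide +kernel

theorem card_diagonalG2 [Fintype F] :
    1 * Nat.card (chevG2.diagonalSubgroup F) = (Fintype.card F - 1) ^ 2 := by
  have h := card_diagonal (F := F) (D := chevG2) ⟨⟨cert_G2, posG2, by simp⟩, extraG2⟩ smithG2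
  have h' : (∏ i : Fin 2, Nat.gcd (Fintype.card F - 1) (([1, 1] : List ℕ).getD i.val 0)) *
      Nat.card (chevG2.diagonalSubgroup F) = (Fintype.card F - 1) ^ 2 := h
  simpa [Fin.prod_univ_succ] using h'

theorem smithB2 : smithB (cartanMat chevB2)
    (fun i j => (([[0, -1], [1, 2]] : List (List ℤ)).getD i.val []).getD j.val 0)
    (fun i j => (([[2, 1], [-1, 0]] : List (List ℤ)).getD i.val []).getD j.val 0)
    (fun i j => (([[1, 2], [0, 1]] : List (List ℤ)).getD i.val []).getD j.val 0)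
    (fun i j => (([[1, -2], [0, 1]] : List (List ℤ)).getD i.val []).getD j.val 0)
    (fun i => ([1, 2] : List ℕ).getD i.val 0) = true := by decide +kernel

theorem card_diagonalB2 [Fintype F] :
    Nat.gcd (Fintype.card F - 1) 2 * Nat.card (chevB2.diagonalSubgroup F) = (Fintype.card F - 1) ^ 2 := by
  have h := card_diagonal (F := F) (D := chevB2) ⟨⟨cert_B2, posB2, by simp⟩, extraB2⟩ smithB2
  have h' : (∏ i : Fin 2, Nat.gcd (Fintype.card F - 1) (([1, 2] : List ℕ).getD i.val 0)) *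
      Nat.card (chevB2.diagonalSubgroup F) = (Fintype.card F - 1) ^ 2 := h
  simpa [Fin.prod_univ_succ] using h'

theorem smithD4 : smithB (cartanMat chevD4)
    (fun i j => (([[-1, 0, 0, 0], [-2, -1, 0, 0], [-3, -2, -1, 0], [2, 2, 1, 1]] : List (List ℤ)).getD i.val []).getD j.val 0)
    (fun i j => (([[-1, 0, 0, 0], [2, -1, 0, 0], [-1, 2, -1, 0], [-1, 0, 1, 1]] : List (List ℤ)).getD i.val []).getD j.val 0)
    (fun i j => (([[0, 0, 0, 1], [1, 0, 0, 2], [0, 1, -1, 1], [0, 0, 1, 2]] : List (List ℤ)).getD i.val []).getD j.val 0)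
    (fun i j => (([[-2, 1, 0, 0], [-3, 0, 1, 1], [-2, 0, 0, 1], [1, 0, 0, 0]] : List (List ℤ)).getD i.val []).getD j.val 0)
    (fun i => ([1, 1, 2, 2] : List ℕ).getD i.val 0) = true := by decide +kernel

theorem card_diagonalD4 [Fintype F] :
    Nat.gcd (Fintype.card F - 1) 2 * Nat.gcd (Fintype.card F - 1) 2 * Nat.card (chevD4.diagonalSubgroup F) = (Fintype.card F - 1) ^ 4 := by
  have h := card_diagonal (F := F) (D := chevD4) ⟨⟨cert_D4, posD4, by simp⟩, extraD4⟩ smithD4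
  have h' : (∏ i : Fin 4, Nat.gcd (Fintype.card F - 1) (([1, 1, 2, 2] : List ℕ).getD i.val 0)) *
      Nat.card (chevD4.diagonalSubgroup F) = (Fintype.card F - 1) ^ 4 := h
  simpa [Fin.prod_univ_succ] using h'

theorem smithF4 : smithB (cartanMat chevF4)
    (fun i j => (([[-1, 0, 0, 0], [1, 0, -1, 0], [-2, -1, 0, 0], [-2, -2, -2, -1]] : List (List ℤ)).getD i.val []).getD j.val 0)
    (fun i j => (([[-1, 0, 0, 0], [2, 0, -1, 0], [-1, -1, 0, 0], [0, 2, 2, -1]] : List (List ℤ)).getD i.val []).getD j.val 0)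
    (fun i j => (([[0, 0, 1, -2], [1, 0, 2, -4], [0, 0, 2, -3], [0, 1, 2, -2]] : List (List ℤ)).getD i.val []).getD j.val 0)
    (fun i j => (([[-2, 1, 0, 0], [2, 0, -2, 1], [-3, 0, 2, 0], [-2, 0, 1, 0]] : List (List ℤ)).getD i.val []).getD j.val 0)
    (fun i => ([1, 1, 1, 1] : List ℕ).getD i.val 0) = true := by decide +kernel

theorem card_diagonalF4 [Fintype F] :
    1 * Nat.card (chevF4.diagonalSubgroup F) = (Fintype.card F - 1) ^ 4 := by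
  have h := card_diagonal (F := F) (D := chevF4) ⟨⟨cert_F4, posF4, by simp⟩, extraF4⟩ smithF4
  have h' : (∏ i : Fin 4, Nat.gcd (Fintype.card F - 1) (([1, 1, 1, 1] : List ℕ).getD i.val 0)) *
      Nat.card (chevF4.diagonalSubgroup F) = (Fintype.card F - 1) ^ 4 := h
  simpa [Fin.prod_univ_succ] using h'

theorem smithE6 : smithB (cartanMat chevE6)
    (fun i j => (([[-1, 0, 0, 0, 0, 0], [0, -1, 0, 0, 0, 0], [1, -2, 0, -1, 0, 0], [2, -3, 0, -2, -1, 0], [-2, 1, -1, 0, 0, 0], [-5, 0, -4, -3, -2, -1]] : List (List ℤ)).getD i.val []).getD j.val 0)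
    (fun i j => (([[-1, 0, 0, 0, 0, 0], [0, -1, 0, 0, 0, 0], [2, -1, 0, 0, -1, 0], [-1, 2, -1, 0, 0, 0], [0, -1, 2, -1, 0, 0], [0, 0, -1, 2, 4, -1]] : List (List ℤ)).getD i.val []).getD j.val 0)
    (fun i j => (([[0, 0, 0, 0, 1, -2], [0, 0, 0, 0, 2, -3], [1, 0, 0, 0, 2, -4], [0, 1, 0, 0, 4, -6], [0, 0, 1, 0, 4, -5], [0, 0, 0, 1, 4, -4]] : List (List ℤ)).getD i.val []).getD j.val 0)
    (fun i j => (([[-2, 0, 1, 0, 0, 0], [0, -2, 0, 1, 0, 0], [2, -3, 0, 0, 1, 0], [4, -4, 0, 0, 0, 1], [-3, 2, 0, 0, 0, 0], [-2, 1, 0, 0, 0, 0]] : List (List ℤ)).getD i.val []).getD j.val 0)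
    (fun i => ([1, 1, 1, 1, 1, 3] : List ℕ).getD i.val 0) = true := by decide +kernel

theorem card_diagonalE6 [Fintype F] :
    Nat.gcd (Fintype.card F - 1) 3 * Nat.card (chevE6.diagonalSubgroup F) = (Fintype.card F - 1) ^ 6 := by
  have h := card_diagonal (F := F) (D := chevE6) ⟨⟨cert_E6, posE6, by simp⟩, extraE6⟩ smithE6
  have h' : (∏ i : Fin 6, Nat.gcd (Fintype.card F - 1) (([1, 1, 1, 1, 1, 3] : List ℕ).getD i.val 0)) *
      Nat.card (chevE6.diagonalSubgroup F) = (Fintype.card F - 1) ^ 6 := h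
  simpa [Fin.prod_univ_succ] using h'

theorem smithE7 : smithB (cartanMat chevE7)
    (fun i j => (([[-1, 0, 0, 0, 0, 0, 0], [0, -1, 0, 0, 0, 0, 0], [1, -2, 0, -1, 0, 0, 0], [2, -3, 0, -2, -1, 0, 0], [3, -4, 0, -3, -2, -1, 0], [-2, 1, -1, 0, 0, 0, 0], [-4, -1, -4, -4, -3, -2, -1]] : List (List ℤ)).getD i.val []).getD j.val 0)
    (fun i j => (([[-1, 0, 0, 0, 0, 0, 0], [0, -1, 0, 0, 0, 0, 0], [2, -1, 0, 0, 0, -1, 0], [-1, 2, -1, 0, 0, 0, 0], [0, -1, 2, -1, 0, 0, 0], [0, 0, -1, 2, -1, 0, 0], [0, 0, 0, -1, 2, 4, -1]] : List (List ℤ)).getD i.val []).getD j.val 0)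
    (fun i j => (([[0, 0, 0, 0, 0, 1, -2], [0, 0, 0, 0, 0, 2, -3], [1, 0, 0, 0, 0, 2, -4], [0, 1, 0, 0, 0, 4, -6], [0, 0, 1, 0, 0, 4, -5], [0, 0, 0, 1, 0, 4, -4], [0, 0, 0, 0, 1, 4, -3]] : List (List ℤ)).getD i.val []).getD j.val 0)
    (fun i j => (([[-2, 0, 1, 0, 0, 0, 0], [0, -2, 0, 1, 0, 0, 0], [2, -3, 0, 0, 1, 0, 0], [4, -4, 0, 0, 0, 1, 0], [6, -5, 0, 0, 0, 0, 1], [-3, 2, 0, 0, 0, 0, 0], [-2, 1, 0, 0, 0, 0, 0]] : List (List ℤ)).getD i.val []).getD j.val 0)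
    (fun i => ([1, 1, 1, 1, 1, 1, 2] : List ℕ).getD i.val 0) = true := by decide +kernel

theorem card_diagonalE7 [Fintype F] :
    Nat.gcd (Fintype.card F - 1) 2 * Nat.card (chevE7.diagonalSubgroup F) = (Fintype.card F - 1) ^ 7 := by
  have h := card_diagonal (F := F) (D := chevE7) ⟨⟨cert_E7, posE7, by simp⟩, extraE7⟩ smithE7
  have h' : (∏ i : Fin 7, Nat.gcd (Fintype.card F - 1) (([1, 1, 1, 1, 1, 1, 2] : List ℕ).getD i.val 0)) *
      Nat.card (chevE7.diagonalSubgroup F) = (Fintype.card F - 1) ^ 7 := h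
  simpa [Fin.prod_univ_succ] using h'

theorem smithE8 : smithB (cartanMat chevE8)
    (fun i j => (([[-1, 0, 0, 0, 0, 0, 0, 0], [0, -1, 0, 0, 0, 0, 0, 0], [1, -2, 0, -1, 0, 0, 0, 0], [2, -3, 0, -2, -1, 0, 0, 0], [3, -4, 0, -3, -2, -1, 0, 0], [4, -5, 0, -4, -3, -2, -1, 0], [-2, 1, -1, 0, 0, 0, 0, 0], [-3, -2, -4, -5, -4, -3, -2, -1]] : List (List ℤ)).getD i.val []).getD j.val 0)
    (fun i j => (([[-1, 0, 0, 0, 0, 0, 0, 0], [0, -1, 0, 0, 0, 0, 0, 0], [2, -1, 0, 0, 0, 0, -1, 0], [-1, 2, -1, 0, 0, 0, 0, 0], [0, -1, 2, -1, 0, 0, 0, 0], [0, 0, -1, 2, -1, 0, 0, 0], [0, 0, 0, -1, 2, -1, 0, 0], [0, 0, 0, 0, -1, 2, 4, -1]] : List (List ℤ)).getD i.val []).getD j.val 0)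
    (fun i j => (([[0, 0, 0, 0, 0, 0, 1, -2], [0, 0, 0, 0, 0, 0, 2, -3], [1, 0, 0, 0, 0, 0, 2, -4], [0, 1, 0, 0, 0, 0, 4, -6], [0, 0, 1, 0, 0, 0, 4, -5], [0, 0, 0, 1, 0, 0, 4, -4], [0, 0, 0, 0, 1, 0, 4, -3], [0, 0, 0, 0, 0, 1, 4, -2]] : List (List ℤ)).getD i.val []).getD j.val 0)
    (fun i j => (([[-2, 0, 1, 0, 0, 0, 0, 0], [0, -2, 0, 1, 0, 0, 0, 0], [2, -3, 0, 0, 1, 0, 0, 0], [4, -4, 0, 0, 0, 1, 0, 0], [6, -5, 0, 0, 0, 0, 1, 0], [8, -6, 0, 0, 0, 0, 0, 1], [-3, 2, 0, 0, 0, 0, 0, 0], [-2, 1, 0, 0, 0, 0, 0, 0]] : List (List ℤ)).getD i.val []).getD j.val 0)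
    (fun i => ([1, 1, 1, 1, 1, 1, 1, 1] : List ℕ).getD i.val 0) = true := by decide +kernel

theorem card_diagonalE8 [Fintype F] :
    1 * Nat.card (chevE8.diagonalSubgroup F) = (Fintype.card F - 1) ^ 8 := by
  have h := card_diagonal (F := F) (D := chevE8) ⟨⟨cert_E8, posE8, by simp⟩, extraE8⟩ smithE8
  have h' : (∏ i : Fin 8, Nat.gcd (Fintype.card F - 1) (([1, 1, 1, 1, 1, 1, 1, 1] : List ℕ).getD i.val 0)) *
      Nat.card (chevE8.diagonalSubgroup F) = (Fintype.card F - 1) ^ 8 := h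
  simpa [Fin.prod_univ_succ] using h'

end CfsgLib.Chevalley
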