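import Cfsg.Agent.Lib.Chevalley.Perfect
import Cfsg.Agent.Lib.Chevalley.ExtraData

/-! Commutator expressions for all roots of the tabulated data. -/

set_option autoImplicit false
set_option maxRecDepth 100000

namespace CfsgLib.Chevalley

open Cfsg.Lie

/-- The steps for type G2. -/
def perfStepsG2 : List (ℕ × ℕ × ℕ × ℕ) :=
  [(1, 0, 1, 5), (1, 1, 0, 6), (1, 5, 0, 10), (1, 6, 1, 11), (1, 10, 5, 11), (1, 11, 6, 10), (0, 2, 0, 0), (1, 3, 1, 7), (1, 4, 0, 8), (1, 7, 0, 9), (1, 8, 1, 9), (1, 9, 3, 11)]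

theorem perfG2 : perfB chevG2 true perfStepsG2 = true := by decide +kernel

/-- The steps for type B2. -/
def perfStepsB2 : List (ℕ × ℕ × ℕ × ℕ) :=
  [(0, 1, 1, 0), (1, 0, 2, 3), (1, 2, 1, 4), (1, 3, 0, 5), (1, 4, 0, 6), (1, 5, 1, 7), (1, 6, 2, 7), (1, 7, 3, 6)]

theorem perfB2 : perfB chevB2 true perfStepsB2 = true := by decide +kernel

/-- The steps for type D4. -/
def perfStepsD4 : List (ℕ × ℕ × ℕ × ℕ) :=
  [(1, 0, 1, 9), (1, 1, 0, 14), (1, 2, 0, 15), (1, 3, 0, 16), (1, 4, 0, 17), (1, 5, 1, 17), (1, 6, 0, 19), (1, 7, 0, 20), (1, 8, 0, 21), (1, 9, 0, 22), (1, 10, 1, 20), (1, 11, 1, 21), (1, 12, 2, 22), (1, 13, 3, 22), (1, 14, 1, 23), (1, 15, 2, 23), (1, 16, 3, 23), (1, 17, 4, 23), (1, 18, 6, 22), (1, 19, 6, 23), (1, 20, 7, 23), (1, 21, 8, 23), (1, 22, 9, 23), (1, 23, 14, 22)]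

theorem perfD4 : perfB chevD4 false perfStepsD4 = true := by decide +kernel

/-- The steps for type F4. -/
def perfStepsF4 : List (ℕ × ℕ × ℕ × ℕ) :=
  [(1, 0, 1, 23), (1, 1, 0, 24), (1, 2, 0, 26), (1, 3, 4, 20), (1, 4, 0, 31), (1, 5, 0, 32), (1, 6, 0, 29), (1, 7, 3, 33), (1, 8, 3, 34), (1, 9, 3, 35), (1, 10, 3, 36), (1, 11, 3, 37), (1, 12, 3, 38), (1, 13, 3, 39), (1, 14, 3, 40), (1, 15, 0, 42), (1, 16, 0, 43), (1, 17, 0, 36), (1, 18, 3, 41), (1, 19, 3, 42), (1, 20, 3, 43), (1, 21, 0, 45), (1, 22, 0, 38), (1, 23, 0, 46), (1, 24, 1, 47), (1, 25, 0, 39), (1, 26, 1, 39), (1, 27, 3, 45), (1, 28, 3, 46), (1, 29, 3, 47), (1, 30, 0, 40), (1, 31, 1, 40), (1, 32, 2, 40), (1, 33, 7, 44), (1, 34, 7, 45), (1, 35, 7, 46), (1, 36, 7, 47), (1, 37, 8, 46), (1, 38, 8, 47), (1, 39, 9, 47), (1, 40, 11, 47), (1, 41, 0, 44), (1, 42, 1, 44), (1, 43, 2, 44), (1, 44, 18, 47), (1, 45, 4,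 44), (1, 46, 5, 44), (1, 47, 6, 44)]

theorem perfF4 : perfB chevF4 false perfStepsF4 = true := by decide +kernel

/-- The steps for type E6. -/
def perfStepsE6 : List (ℕ × ℕ × ℕ × ℕ) :=
  [(1, 0, 1, 25), (1, 1, 0, 46), (1, 2, 0, 47), (1, 3, 0, 48), (1, 4, 0, 49), (1, 5, 0, 50), (1, 6, 0, 51), (1, 7, 0, 52), (1, 8, 0, 53), (1, 9, 0, 54), (1, 10, 0, 55), (1, 11, 1, 53), (1, 12, 1, 54), (1, 13, 1, 55), (1, 14, 2, 55), (1, 15, 5, 55), (1, 16, 0, 61), (1, 17, 0, 62), (1, 18, 0, 63), (1, 19, 0, 64), (1, 20, 0, 65), (1, 21, 0, 66), (1, 22, 0, 67), (1, 23, 0, 68), (1, 24, 0, 69), (1, 25, 0, 70), (1, 26, 1, 64), (1, 27, 1, 65), (1, 28, 1, 66), (1, 29, 2, 66), (1, 30, 1, 67), (1, 31, 1, 68), (1, 32, 1, 69), (1, 33, 2, 67), (1, 34, 2, 68), (1, 35, 3, 67), (1, 36, 4, 68), (1, 37, 3, 69), (1, 38, 4, 69), (1, 39, 2, 70), (1, 40, 3, 70), (1, 41, 4, 70), (1, 42, 5, 69), (1, 43,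 5, 70), (1, 44, 6, 70), (1, 45, 7, 70), (1, 46, 1, 71), (1, 47, 2, 71), (1, 48, 3, 71), (1, 49, 4, 71), (1, 50, 5, 71), (1, 51, 6, 71), (1, 52, 7, 71), (1, 53, 8, 71), (1, 54, 9, 71), (1, 55, 10, 71), (1, 56, 16, 66), (1, 57, 16, 69), (1, 58, 16, 70), (1, 59, 17, 70), (1, 60, 18, 70), (1, 61, 16, 71), (1, 62, 17, 71), (1, 63, 18, 71), (1, 64, 19, 71), (1, 65, 20, 71), (1, 66, 21, 71), (1, 67, 22, 71), (1, 68, 23, 71), (1, 69, 24, 71), (1, 70, 25, 71), (1, 71, 46, 70)]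

theorem perfE6 : perfB chevE6 false perfStepsE6 = true := by decide +kernel

/-- The steps for type E7. -/
def perfStepsE7 : List (ℕ × ℕ × ℕ × ℕ) :=
  [(1, 0, 1, 32), (1, 1, 0, 93), (1, 2, 0, 94), (1, 3, 0, 95), (1, 4, 0, 96), (1, 5, 0, 97), (1, 6, 0, 98), (1, 7, 0, 99), (1, 8, 0, 100), (1, 9, 0, 101), (1, 10, 0, 102), (1, 11, 0, 103), (1, 12, 0, 104), (1, 13, 0, 105), (1, 14, 0, 106), (1, 15, 0, 107), (1, 16, 0, 108), (1, 17, 0, 109), (1, 18, 0, 110), (1, 19, 0, 111), (1, 20, 0, 112), (1, 21, 0, 113), (1, 22, 0, 114), (1, 23, 0, 115), (1, 24, 0, 116), (1, 25, 0, 117), (1, 26, 0, 118), (1, 27, 0, 119), (1, 28, 0, 120), (1, 29, 0, 121), (1, 30, 0, 122), (1, 31, 0, 123), (1, 32, 0, 124), (1, 33, 1, 109), (1, 34, 1, 110), (1, 35, 1, 111), (1, 36, 1, 112), (1, 37, 1, 113), (1, 38, 1, 114), (1, 39, 1, 115), (1, 40, 1, 116), (1, 41, 1, 117), (1, 42, 1, 118), (1, 43, 2,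 115), (1, 44, 2, 116), (1, 45, 2, 117), (1, 46, 2, 118), (1, 47, 3, 118), (1, 48, 1, 119), (1, 49, 1, 120), (1, 50, 1, 121), (1, 51, 1, 122), (1, 52, 1, 123), (1, 53, 2, 119), (1, 54, 2, 120), (1, 55, 2, 121), (1, 56, 2, 122), (1, 57, 3, 119), (1, 58, 3, 120), (1, 59, 3, 121), (1, 60, 4, 119), (1, 61, 4, 120), (1, 62, 5, 119), (1, 63, 6, 120), (1, 64, 5, 121), (1, 65, 6, 121), (1, 66, 4, 122), (1, 67, 5, 122), (1, 68, 6, 122), (1, 69, 3, 123), (1, 70, 4, 123), (1, 71, 5, 123), (1, 72, 6, 123), (1, 73, 2, 124), (1, 74, 3, 124), (1, 75, 4, 124), (1, 76, 5, 124), (1, 77, 6, 124), (1, 78, 7, 122), (1, 79, 7, 123), (1, 80, 8, 123), (1, 81, 9, 123), (1, 82, 10, 123), (1, 83, 7, 124), (1, 84, 8, 124), (1, 85, 9, 124), (1, 86, 10, 124), (1, 87, 11, 124), (1, 88, 12, 124), (1, 89, 13, 124), (1, 90, 14, 124), (1, 91, 15, 124), (1, 92, 16, 124), (1, 93, 1, 125), (1, 94, 2, 125),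 (1, 95, 3, 125), (1, 96, 4, 125), (1, 97, 5, 125), (1, 98, 6, 125), (1, 99, 7, 125), (1, 100, 8, 125), (1, 101, 9, 125), (1, 102, 10, 125), (1, 103, 11, 125), (1, 104, 12, 125), (1, 105, 13, 125), (1, 106, 14, 125), (1, 107, 15, 125), (1, 108, 16, 125), (1, 109, 17, 125), (1, 110, 18, 125), (1, 111, 19, 125), (1, 112, 20, 125), (1, 113, 21, 125), (1, 114, 22, 125), (1, 115, 23, 125), (1, 116, 24, 125), (1, 117, 25, 125), (1, 118, 26, 125), (1, 119, 27, 125), (1, 120, 28, 125), (1, 121, 29, 125), (1, 122, 30, 125), (1, 123, 31, 125), (1, 124, 32, 125), (1, 125, 93, 124)]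

theorem perfE7 : perfB chevE7 false perfStepsE7 = true := by decide +kernel

/-- The steps for type E8. -/
def perfStepsE8 : List (ℕ × ℕ × ℕ × ℕ) :=
  [(1, 0, 1, 119), (1, 1, 0, 120), (1, 2, 0, 122), (1, 3, 0, 125), (1, 4, 0, 129), (1, 5, 0, 134), (1, 6, 0, 140), (1, 7, 0, 146), (1, 8, 0, 151), (1, 9, 0, 155), (1, 10, 0, 158), (1, 11, 0, 160), (1, 12, 0, 161), (1, 13, 1, 161), (1, 14, 0, 168), (1, 15, 0, 173), (1, 16, 0, 177), (1, 17, 0, 180), (1, 18, 0, 182), (1, 19, 0, 183), (1, 20, 1, 183), (1, 21, 0, 187), (1, 22, 0, 190), (1, 23, 0, 192), (1, 24, 0, 193), (1, 25, 1, 193), (1, 26, 0, 196), (1, 27, 0, 198), (1, 28, 0, 199), (1, 29, 1, 199), (1, 30, 0, 201), (1, 31, 0, 202), (1, 32, 1, 202), (1, 33, 0, 203), (1, 34, 1, 203), (1, 35, 2, 203), (1, 36, 0, 206), (1, 37, 0, 208), (1, 38, 0, 209), (1, 39, 1, 209), (1, 40, 0, 211), (1, 41, 0, 212), (1, 42, 1, 212), (1,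 43, 0, 213), (1, 44, 1, 213), (1, 45, 2, 213), (1, 46, 0, 215), (1, 47, 0, 216), (1, 48, 1, 216), (1, 49, 0, 217), (1, 50, 1, 217), (1, 51, 2, 217), (1, 52, 0, 218), (1, 53, 1, 218), (1, 54, 2, 218), (1, 55, 3, 218), (1, 56, 0, 220), (1, 57, 0, 221), (1, 58, 1, 221), (1, 59, 0, 222), (1, 60, 1, 222), (1, 61, 2, 222), (1, 62, 0, 223), (1, 63, 1, 223), (1, 64, 2, 223), (1, 65, 3, 223), (1, 66, 0, 224), (1, 67, 1, 224), (1, 68, 2, 224), (1, 69, 3, 224), (1, 70, 4, 224), (1, 71, 0, 225), (1, 72, 1, 225), (1, 73, 2, 225), (1, 74, 3, 225), (1, 75, 4, 225), (1, 76, 5, 225), (1, 77, 6, 225), (1, 78, 0, 227), (1, 79, 0, 228), (1, 80, 1, 228), (1, 81, 0, 229), (1, 82, 1, 229), (1, 83, 2, 229), (1, 84, 0, 230), (1, 85, 1, 230), (1, 86, 2, 230), (1, 87, 3, 230), (1, 88, 0, 231), (1, 89, 1, 231), (1, 90, 2, 231), (1, 91, 3, 231), (1, 92, 4, 231), (1, 93, 0, 232), (1, 94, 1, 232),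 (1, 95, 2, 232), (1, 96, 3, 232), (1, 97, 4, 232), (1, 98, 5, 232), (1, 99, 0, 233), (1, 100, 1, 233), (1, 101, 2, 233), (1, 102, 3, 233), (1, 103, 4, 233), (1, 104, 5, 233), (1, 105, 0, 234), (1, 106, 1, 234), (1, 107, 2, 234), (1, 108, 3, 234), (1, 109, 4, 234), (1, 110, 0, 235), (1, 111, 1, 235), (1, 112, 2, 235), (1, 113, 3, 235), (1, 114, 0, 236), (1, 115, 1, 236), (1, 116, 2, 236), (1, 117, 0, 237), (1, 118, 1, 237), (1, 119, 0, 238), (1, 120, 1, 239), (1, 121, 2, 238), (1, 122, 2, 239), (1, 123, 3, 237), (1, 124, 3, 238), (1, 125, 3, 239), (1, 126, 4, 236), (1, 127, 4, 237), (1, 128, 4, 238), (1, 129, 4, 239), (1, 130, 5, 235), (1, 131, 5, 236), (1, 132, 5, 237), (1, 133, 5, 238), (1, 134, 5, 239), (1, 135, 6, 234), (1, 136, 6, 235), (1, 137, 6, 236), (1, 138, 6, 237), (1, 139, 6, 238), (1, 140, 6, 239), (1, 141, 7, 234), (1, 142, 7, 235), (1, 143, 7, 236),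 (1, 144, 7, 237), (1, 145, 7, 238), (1, 146, 7, 239), (1, 147, 8, 235), (1, 148, 8, 236), (1, 149, 8, 237), (1, 150, 8, 238), (1, 151, 8, 239), (1, 152, 9, 236), (1, 153, 9, 237), (1, 154, 9, 238), (1, 155, 9, 239), (1, 156, 10, 237), (1, 157, 10, 238), (1, 158, 10, 239), (1, 159, 11, 238), (1, 160, 11, 239), (1, 161, 12, 239), (1, 162, 14, 233), (1, 163, 14, 234), (1, 164, 14, 235), (1, 165, 14, 236), (1, 166, 14, 237), (1, 167, 14, 238), (1, 168, 14, 239), (1, 169, 15, 235), (1, 170, 15, 236), (1, 171, 15, 237), (1, 172, 15, 238), (1, 173, 15, 239), (1, 174, 16, 236), (1, 175, 16, 237), (1, 176, 16, 238), (1, 177, 16, 239), (1, 178, 17, 237), (1, 179, 17, 238), (1, 180, 17, 239), (1, 181, 18, 238), (1, 182, 18, 239), (1, 183, 19, 239), (1, 184, 21, 236), (1, 185, 21, 237), (1, 186, 21, 238), (1, 187, 21, 239), (1, 188, 22, 237), (1, 189, 22, 238), (1, 190, 22, 239),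 (1, 191, 23, 238), (1, 192, 23, 239), (1, 193, 24, 239), (1, 194, 26, 237), (1, 195, 26, 238), (1, 196, 26, 239), (1, 197, 27, 238), (1, 198, 27, 239), (1, 199, 28, 239), (1, 200, 30, 238), (1, 201, 30, 239), (1, 202, 31, 239), (1, 203, 33, 239), (1, 204, 36, 237), (1, 205, 36, 238), (1, 206, 36, 239), (1, 207, 37, 238), (1, 208, 37, 239), (1, 209, 38, 239), (1, 210, 40, 238), (1, 211, 40, 239), (1, 212, 41, 239), (1, 213, 43, 239), (1, 214, 46, 238), (1, 215, 46, 239), (1, 216, 47, 239), (1, 217, 49, 239), (1, 218, 52, 239), (1, 219, 56, 238), (1, 220, 56, 239), (1, 221, 57, 239), (1, 222, 59, 239), (1, 223, 62, 239), (1, 224, 66, 239), (1, 225, 71, 239), (1, 226, 78, 238), (1, 227, 78, 239), (1, 228, 79, 239), (1, 229, 81, 239), (1, 230, 84, 239), (1, 231, 88, 239), (1, 232, 93, 239), (1, 233, 99, 239), (1, 234, 105, 239), (1, 235, 110, 239), (1, 236, 114, 239),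 (1, 237, 117, 239), (1, 238, 119, 239), (1, 239, 120, 238)]

theorem perfE8 : perfB chevE8 false perfStepsE8 = true := by decide +kernel

end CfsgLib.Chevalley
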