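import Cfsg.Agent.Lib.Chevalley.Bruhat

/-!
The centraliser in a Chevalley group of a regular element of the diagonal subgroup (its values
at the roots are pairwise distinct and different from 1) is the diagonal subgroup.
-/

set_option autoImplicit false

open Matrix

namespace CfsgLib.Chevalley

open Cfsg.Lie

variable {D : ChevalleyDatum} {A : Aux} {F : Type*} [Field F]

/-- An element commuting with a regular torus element and raising weights is trivial. -/
theorem eq_one_of_commute_regular (h : Full D A) {c : Fin D.rank → Fˣ}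
    (h1 : ∀ s : Fin D.nroots, chi D s c ≠ 1)
    (h2 : Function.Injective fun s : Fin D.nroots => chi D s c) {u : GL D.Idx F}
    (hu : u ∈ D.posUnipotent F) (hc : Commute (torusHom D F c) u) : u = 1 := by
  have hR := raiseBy_posU h hu
  apply Units.ext
  ext a b
  by_contra hne
  have hne' : ((u : Matrix D.Idx D.Idx F) - 1) a b ≠ 0 := by
    rw [Matrix.sub_apply]
    exact sub_ne_zero.2 hne
  have hw := hR a b hne'
  have hab : a ≠ b := by
    rintro rfl
    omega
  have hu0 : (u : Matrix D.Idx D.Idx F) a b ≠ 0 := by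
    intro h0
    exact hne' (by rw [Matrix.sub_apply, h0, Matrix.one_apply_ne hab, sub_zero])
  have he := congrArg (fun g : GL D.Idx F => (g : Matrix D.Idx D.Idx F) a b) hc.eq
  simp only [Units.val_mul, coe_torusHom, Matrix.diagonal_mul, Matrix.mul_diagonal] at he
  rw [mul_comm] at he
  have he' := mul_left_cancel₀ hu0 he
  rcases a with i | r <;> rcases b with j | s
  · simp [wt] at hw
  · exact h1 s (Units.ext (by simpa using he'.symm))
  · exact h1 r (Units.ext (by simpa using he'))
  · exact hab (congrArg Sum.inr (h2 (Units.ext (by simpa using he'))))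

/-- A monomial element commuting with a regular torus element is diagonal. -/
theorem mem_diagonal_of_commute_monomial (h : Full D A) {c : Fin D.rank → Fˣ}
    (h2 : Function.Injective fun s : Fin D.nroots => chi D s c) {n : GL D.Idx F}
    (hn : n ∈ D.monomialSubgroup F) {σ : Equiv.Perm (Fin D.nroots)} {η : Fin D.nroots → F}
    (hA : Acts h.cert n σ η) (hc : Commute (torusHom D F c) n) : n ∈ D.diagonalSubgroup F := by
  have hσ : ∀ s, σ s = s := by
    intro s
    have he := congrArg
      (fun g : GL D.Idx F => (g : Matrix D.Idx D.Idx F) (Sum.inr (σ s)) (Sum.inr s)) hc.eq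
    simp only [Units.val_mul, coe_torusHom, Matrix.diagonal_mul, Matrix.mul_diagonal, hA.col,
      if_true, Sum.elim_inr] at he
    rw [mul_comm] at he
    exact h2 (Units.ext (mul_left_cancel₀ (hA.ne_zero s) he))
  refine mem_diagonal_of_perm h hn hA fun i => ?_
  rw [hσ]
  exact h.simple_pos i.isLt

/-- The centraliser of a regular element of the diagonal subgroup is the diagonal subgroup. -/
theorem mem_diagonal_of_commute_regular (h : Full D A) {c : Fin D.rank → Fˣ}
    (h1 : ∀ s : Fin D.nroots, chi D s c ≠ 1)
    (h2 : Function.Injective fun s : Fin D.nroots => chi D s c) {g : GL D.Idx F}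
    (hg : g ∈ D.group F) (hc : Commute (torusHom D F c) g) :
    g ∈ D.diagonalSubgroup F := by
  obtain ⟨u, hu, n, hn, σ, η, hA, v, hv, rfl⟩ := exists_canonical h hg
  set d := torusHom D F c with hd
  have hdH : d ∈ D.diagonalSubgroup F := torus_mem_diagonal h c
  obtain ⟨η', hA'⟩ : ∃ η', Acts h.cert (d * n * d⁻¹) σ η' := by
    have := ((acts_torus h.cert c).mul hA).mul (acts_torus h.cert c⁻¹)
    rw [map_inv, ← hd, mul_one, one_mul] at this
    exact ⟨_, this⟩
  have hpU : ∀ {x : GL D.Idx F}, x ∈ rootsU D F (invSet D σ) → x ∈ D.posUnipotent F :=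
    fun hx => rootsU_mono (T := {r | D.IsPosRoot r}) (fun r hr => hr.1) hx
  have hu' : d * u * d⁻¹ ∈ D.posUnipotent F := diagonal_conj_rootsU h _ d hdH u hu
  have hv' : d * v * d⁻¹ ∈ rootsU D F (invSet D σ) := diagonal_conj_rootsU h _ d hdH v hv
  have hn' : d * n * d⁻¹ ∈ D.monomialSubgroup F :=
    mul_mem (mul_mem (diagonal_le_monomial hdH) hn) (inv_mem (diagonal_le_monomial hdH))
  obtain ⟨eu, en, ev⟩ := canonical_unique h hu' hu hn' hn hA' hA hv' hv
    (by rw [show d * u * d⁻¹ * (d * n * d⁻¹) * (d * v * d⁻¹) = d * (u * n * v) * d⁻¹ by group,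
      hc.eq, mul_inv_cancel_right])
  have cu : Commute d u := mul_inv_eq_iff_eq_mul.1 eu
  have cn : Commute d n := mul_inv_eq_iff_eq_mul.1 en
  have cv : Commute d v := mul_inv_eq_iff_eq_mul.1 ev
  rw [eq_one_of_commute_regular h h1 h2 hu cu, eq_one_of_commute_regular h h1 h2 (hpU hv) cv,
    one_mul, mul_one]
  exact mem_diagonal_of_commute_monomial h h2 hn hA cn

end CfsgLib.Chevalley
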