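import Mathlib.LinearAlgebra.Matrix.GeneralLinearGroup.Defs
import Mathlib.LinearAlgebra.Matrix.SpecialLinearGroup
import Mathlib.LinearAlgebra.LinearIndependent.Basic
import Mathlib.FieldTheory.Finite.Basic

/-!
Hilbert's theorem 90 for `GL₂` over a cyclic extension, and the form of it for `SL₂` used to
twist a torus by a reflection.
-/

set_option autoImplicit false

open Matrix
open scoped MatrixGroups

namespace CfsgLib.Chevalley.Twist

variable {F K : Type*} [Field F] [Field K] [Algebra F K]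

/-- Hilbert 90 for `GL₂`: a matrix over `F` of order dividing that of `τ` is a `τ`-coboundary. -/
theorem exists_twist_gl2 (τ : K ≃ₐ[F] K) (hτ : IsOfFinOrder τ) (B : GL (Fin 2) F)
    (hB : B ^ orderOf τ = 1) :
    ∃ b : Matrix (Fin 2) (Fin 2) K, b.det ≠ 0 ∧
      b.map τ = b * (B : Matrix (Fin 2) (Fin 2) F).map (algebraMap F K) := by
  classical
  set L := orderOf τ with hL
  have hL0 : 0 < L := hτ.orderOf_pos
  let f := (algebraMap F K).mapMatrix (m := Fin 2)
  set B' : ℕ → Matrix (Fin 2) (Fin 2) K := fun i => f ((B⁻¹ ^ i : GL (Fin 2) F) : Matrix _ _ F)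
    with hB'
  let Φ : K → Matrix (Fin 2) (Fin 2) K := fun y => ∑ i ∈ Finset.range L, (τ ^ i) y • B' i
  have hΦ : ∀ y, (Φ y).map τ = Φ y * f (B : Matrix _ _ F) := by
    intro y
    have e1 : (Φ y).map τ = ∑ i ∈ Finset.range L, (τ ^ (i + 1)) y • B' i := by
      ext a b
      simp only [Φ, hB', f, Matrix.map_apply, Matrix.sum_apply, Matrix.smul_apply, smul_eq_mul,
        map_sum, map_mul, RingHom.mapMatrix_apply, AlgEquiv.commutes, pow_succ',
        AlgEquiv.mul_apply]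
    have e2 : Φ y * f (B : Matrix _ _ F) =
        ∑ i ∈ Finset.range L, (τ ^ i) y • f ((B⁻¹ ^ i * B : GL (Fin 2) F) : Matrix _ _ F) := by
      simp only [Φ, hB', Finset.sum_mul, smul_mul_assoc, Units.val_mul, map_mul]
    rw [e1, e2]
    obtain ⟨M, hM⟩ : ∃ M, L = M + 1 := ⟨L - 1, by omega⟩
    rw [hM, Finset.sum_range_succ _ M, Finset.sum_range_succ' _ M]
    have eτ : τ ^ (M + 1) = τ ^ 0 := by rw [← hM, hL, pow_orderOf_eq_one, pow_zero]
    have eB : (B⁻¹) ^ M = B := by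
      have : (B⁻¹) ^ (M + 1) = 1 := by rw [← hM, inv_pow, hB, inv_one]
      rw [pow_succ, mul_inv_eq_one] at this
      exact this
    congr 1
    · refine Finset.sum_congr rfl fun i _ => ?_
      rw [hB', pow_succ B⁻¹, mul_assoc, inv_mul_cancel, mul_one]
    · rw [eτ]
      show (τ ^ 0) y • f ((B⁻¹ ^ M : GL (Fin 2) F) : Matrix _ _ F) = _
      rw [eB, pow_zero, pow_zero, one_mul]
  have hspan : ∀ v : Fin 2 → K, v ≠ 0 → ∃ y k, (Φ y *ᵥ v) k ≠ 0 := by
    intro v hv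
    by_contra hc
    push Not at hc
    apply hv
    funext k
    have hli := (linearIndependent_monoidHom K K).comp
      (fun i : Fin L => (((τ ^ (i : ℕ)) : K ≃ₐ[F] K) : K →* K)) ?_
    · have := Fintype.linearIndependent_iff.1 hli (fun i => (B' i *ᵥ v) k) ?_ ⟨0, hL0⟩
      · simpa [hB', f] using this
      · funext y
        have e := hc y k
        simp only [Φ, Matrix.sum_mulVec, Matrix.smul_mulVec, Finset.sum_apply, Pi.smul_apply,
          smul_eq_mul, ← Fin.sum_univ_eq_sum_range] at e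
        simpa [Finset.sum_apply, mul_comm] using e
    · intro i j e
      refine Fin.ext (pow_injOn_Iio_orderOf i.isLt j.isLt (AlgEquiv.ext fun y => ?_))
      exact congrArg (fun g : K →* K => g y) e
  obtain ⟨y₁, k₁, h₁⟩ := hspan ![1, 0] (by simp)
  set r₁ := Φ y₁ k₁ with hr₁
  have hr0 : r₁ ≠ 0 := by
    intro h0
    apply h₁
    simp [Matrix.mulVec, ← hr₁, h0]
  obtain ⟨y₂, k₂, h₂⟩ := hspan ![-r₁ 1, r₁ 0] (by
    intro h0
    apply hr0
    have e0 := congrFun h0 0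
    have e1 := congrFun h0 1
    funext j
    fin_cases j
    · simpa using e1
    · simpa using e0)
  refine ⟨Matrix.of ![Φ y₁ k₁, Φ y₂ k₂], ?_, ?_⟩
  · rw [Matrix.det_fin_two]
    intro h0
    apply h₂
    simp [Matrix.mulVec, dotProduct, Fin.sum_univ_two] at h0 ⊢
    rw [← h0, hr₁]
    ring
  · ext a b
    fin_cases a
    · simpa [Matrix.mul_apply, f] using congrFun (congrFun (hΦ y₁) k₁) b
    · simpa [Matrix.mul_apply, f] using congrFun (congrFun (hΦ y₂) k₂) b

/-- The equation `τ x = D⁻¹ x M D` in `SL₂(K)`, for `D = diag(s,1)`, `M` monomial of the usual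
shape, with entries in the fixed field. -/
theorem exists_twist_sl2 [Fintype F] [DecidableEq F] (τ : K ≃ₐ[F] K) (hτ : IsOfFinOrder τ)
    (hdvd : Fintype.card (GL (Fin 2) F) ∣ orderOf τ) (s : Fˣ) :
    ∃ x : SL(2, K), (x : Matrix (Fin 2) (Fin 2) K).map τ =
      !![((algebraMap F K) s)⁻¹, 0; 0, 1] * (x : Matrix (Fin 2) (Fin 2) K) * !![0, 1; -1, 0] *
        !![algebraMap F K s, 0; 0, 1] := by
  have hpow : ∀ B : GL (Fin 2) F, B ^ orderOf τ = 1 := fun B => by
    obtain ⟨t, ht⟩ := hdvd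
    rw [ht, pow_mul, pow_card_eq_one, one_pow]
  set φ := algebraMap F K with hφ
  have hs : φ s ≠ 0 := by simp [hφ, s.ne_zero]
  let B : GL (Fin 2) F := .mkOfDetNeZero !![0, 1; -(s : F), 0] (by simp [Matrix.det_fin_two])
  let C : GL (Fin 2) F := .mkOfDetNeZero !![(s : F), 0; 0, 1] (by simp [Matrix.det_fin_two])
  obtain ⟨b, hb0, hb⟩ := exists_twist_gl2 τ hτ B (hpow B)
  obtain ⟨c, hc0, hc⟩ := exists_twist_gl2 τ hτ C (hpow C)
  have eB : (B : Matrix (Fin 2) (Fin 2) F).map φ = !![0, 1; -φ s, 0] := by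
    ext i j; fin_cases i <;> fin_cases j <;> simp [B, Matrix.GeneralLinearGroup.mkOfDetNeZero]
  have eC : (C : Matrix (Fin 2) (Fin 2) F).map φ = !![φ s, 0; 0, 1] := by
    ext i j; fin_cases i <;> fin_cases j <;> simp [C, Matrix.GeneralLinearGroup.mkOfDetNeZero]
  rw [← hφ, eB] at hb
  rw [← hφ, eC] at hc
  set δ := c.det / b.det with hδ
  have hdet : ∀ X : Matrix (Fin 2) (Fin 2) K, (X.map τ).det = τ X.det := fun X => by
    rw [← AlgEquiv.mapMatrix_apply, ← AlgEquiv.map_det]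
  have hτδ : τ δ = δ := by
    rw [hδ, map_div₀, ← hdet, ← hdet, hb, hc, Matrix.det_mul, Matrix.det_mul]
    simp only [Matrix.det_fin_two_of]
    field_simp
    ring
  have hcinv : c * c⁻¹ = 1 := Matrix.mul_nonsing_inv c (by simpa [isUnit_iff_ne_zero] using hc0)
  have hcinv' : c⁻¹ * c = 1 := Matrix.nonsing_inv_mul c (by simpa [isUnit_iff_ne_zero] using hc0)
  -- `x = c⁻¹ e b`, written with `e` inserted so that the determinant is one
  refine ⟨⟨c⁻¹ * !![δ, 0; 0, 1] * b, ?_⟩, ?_⟩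
  · rw [Matrix.det_mul, Matrix.det_mul, Matrix.det_nonsing_inv, Ring.inverse_eq_inv',
      Matrix.det_fin_two_of, hδ]
    field_simp
    ring
  show (c⁻¹ * !![δ, 0; 0, 1] * b).map τ = !![(φ s)⁻¹, 0; 0, 1] * (c⁻¹ * !![δ, 0; 0, 1] * b) *
    !![0, 1; -1, 0] * !![φ s, 0; 0, 1]
  have hmul : ∀ X Y : Matrix (Fin 2) (Fin 2) K, (X * Y).map τ = X.map τ * Y.map τ :=
    fun X Y => Matrix.map_mul
  have hsd : !![(φ s)⁻¹, 0; 0, 1] * !![φ s, 0; 0, 1] = (1 : Matrix (Fin 2) (Fin 2) K) := by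
    ext i j; fin_cases i <;> fin_cases j <;> simp [Matrix.mul_apply, hs]
  have hτcinv : c⁻¹.map τ = !![(φ s)⁻¹, 0; 0, 1] * c⁻¹ := by
    have h1 : c⁻¹.map τ * c.map τ = 1 := by
      rw [← hmul, hcinv', Matrix.map_one _ (map_zero τ) (map_one τ)]
    have h2 : c.map τ * (!![(φ s)⁻¹, 0; 0, 1] * c⁻¹) = 1 := by
      have : !![φ s, 0; 0, 1] * !![(φ s)⁻¹, 0; 0, 1] = (1 : Matrix (Fin 2) (Fin 2) K) :=
        mul_eq_one_comm.1 hsd
      rw [hc, Matrix.mul_assoc, ← Matrix.mul_assoc _ _ c⁻¹, this, Matrix.one_mul, hcinv]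
    exact left_inv_eq_right_inv h1 h2
  have he : (!![δ, 0; 0, 1] : Matrix (Fin 2) (Fin 2) K).map τ = !![δ, 0; 0, 1] := by
    ext i j; fin_cases i <;> fin_cases j <;> simp [hτδ]
  have hBMC : !![0, 1; -1, 0] * !![φ s, 0; 0, 1] =
      (!![0, 1; -φ s, 0] : Matrix (Fin 2) (Fin 2) K) := by
    ext i j; fin_cases i <;> fin_cases j <;> simp [Matrix.mul_apply]
  rw [hmul, hmul, hτcinv, he, hb, ← hBMC]
  simp only [Matrix.mul_assoc]

end CfsgLib.Chevalley.Twist
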