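import Cfsg.Agent.Lib.Chevalley.TwistedTorusCentralizer
import Cfsg.Agent.Lib.KnownSimple.ChevalleyLang

/-!
Twisted tori from Lang's theorem: the frame of a monomial element `n` over the finite field, and
the elements of the finite group that it gives.
-/

set_option autoImplicit false
set_option linter.unusedSectionVars false

open Matrix

namespace CfsgLib.Chevalley.Twist

open Cfsg.Lie CfsgLib.ReflectionsSpinor.ChevField CfsgLib.KnownSimple.ChevalleyLang

universe u

variable {D : ChevalleyDatum} {A : Aux}

/-- The torus embeds when the Cartan matrix is invertible. -/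
theorem torusHom_injective_of_inverse {K : Type*} [Field K] {N : Fin D.rank → Fin D.rank → ℤ}
    (hN : ∀ i k, ∑ j, cartanMat D i j * N j k = if i = k then 1 else 0)
    (hsimple : ∀ j : Fin D.rank, D.simple j < D.nroots) :
    Function.Injective (torusHom D K) := by
  intro c c' e
  have hchi : ∀ j : Fin D.rank, chi D (D.simple j) c = chi D (D.simple j) c' := by
    intro j
    have e1 := congrArg (fun M : GL D.Idx K => (M : Matrix D.Idx D.Idx K)
      (Sum.inr ⟨D.simple j, hsimple j⟩) (Sum.inr ⟨D.simple j, hsimple j⟩)) e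
    simp only [coe_torusHom, Matrix.diagonal_apply_eq, Sum.elim_inr] at e1
    exact Units.ext e1
  have key : ∀ (c : Fin D.rank → Kˣ) k, c k = ∏ j : Fin D.rank, chi D (D.simple j) c ^ N j k := by
    intro c k
    show c k = ∏ j : Fin D.rank, (∏ i : Fin D.rank, c i ^ D.cartan i (D.simple j)) ^ N j k
    simp only [← Finset.prod_zpow, ← _root_.zpow_mul]
    rw [Finset.prod_comm]
    have h' : ∀ i : Fin D.rank, (∏ j : Fin D.rank, c i ^ (D.cartan i (D.simple j) * N j k)) =
        c i ^ (if i = k then (1 : ℤ) else 0) := by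
      intro i
      rw [← hN i k]
      generalize Finset.univ (α := Fin D.rank) = S
      classical
      induction S using Finset.induction_on with
      | empty => simp
      | insert a S ha ih => rw [Finset.prod_insert ha, Finset.sum_insert ha, _root_.zpow_add, ih]; rfl
    simp only [h']
    rw [Finset.prod_eq_single k (fun i _ hi => by rw [if_neg hi, zpow_zero])
      (fun h0 => absurd (Finset.mem_univ k) h0), if_pos rfl, zpow_one]
  funext k
  rw [key c k, key c' k]
  simp only [hchi]

variable {F : Type u} [Field F] [Fintype F]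

/-- The Frobenius of the big field. -/
theorem exists_frobAlg (D : ChevalleyDatum) (F : Type u) [Field F] [Fintype F] :
    ∃ σ : Omega D F ≃ₐ[F] Omega D F, ∀ x, σ x = x ^ Fintype.card F := by
  obtain ⟨σ, hσ⟩ := exists_frob (F := F) (Ω := Omega D F)
  exact ⟨AlgEquiv.ofRingEquiv (f := σ) fun x => by rw [hσ, ← map_pow, FiniteField.pow_card],
    fun x => hσ x⟩

/-- Lang: every word gives a frame. -/
theorem exists_frame (h : Full D A) {N : Fin D.rank → Fin D.rank → ℤ}
    (hN : ∀ i k, ∑ j, cartanMat D i j * N j k = if i = k then 1 else 0)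
    {σ : Omega D F ≃ₐ[F] Omega D F} (hσ : ∀ x, σ x = x ^ Fintype.card F)
    (l : List (Fin D.rank)) :
    ∃ g ∈ D.group (Omega D F),
      frobPush D σ g = g * nW h.cert (Omega D F) l := by
  obtain ⟨g, hg, e⟩ := exists_lang h (d := 1) one_pos (by simpa using hN)
    (σ := σ.toRingEquiv) hσ (a := nW h.cert F l)
    (monomial_le_group h.cert (nW_mem_monomial h l))
  rw [push_nW, inv_mul_eq_iff_eq_mul] at e
  exact ⟨g, hg, e⟩

theorem push_nW_fixed (hC : Cert D A) {K : Type*} [Field K] [Algebra F K] (σ : K ≃ₐ[F] K)
    (l : List (Fin D.rank)) : frobPush D σ (nW hC K l) = nW hC K l :=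
  push_nW hC _ l

section Frame

variable {K : Type*} [Field K] [Algebra F K]

/-- The embedding of the finite group. -/
noncomputable def emb (D : ChevalleyDatum) (F K : Type*) [Field F] [Field K] [Algebra F K] :
    ↥(D.group F) →* GL D.Idx K :=
  (push D (algebraMap F K)).comp (D.group F).subtype

theorem emb_injective : Function.Injective (emb D F K) :=
  (push_injective _).comp Subtype.val_injective

variable (h : Full D A) (hinj : Function.Injective (torusHom D K)) {σ : K ≃ₐ[F] K}
  (hfix : ∀ y, σ y = y → ∃ x, algebraMap F K x = y) {g n : GL D.Idx K}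
  (hg : g ∈ D.group K) (hgn : frobPush D σ g = g * n)

include h hinj hfix hg hgn

/-- A twisted fixed element gives an element of the finite group. -/
theorem exists_emb_eq {X : GL D.Idx K} (hX : X ∈ D.group K)
    (hfixX : n * frobPush D σ X * n⁻¹ = X) : ∃ x, emb D F K x = g * X * g⁻¹ := by
  obtain ⟨x₀, hx₀, e⟩ := (fixed_eq_range h hinj (σ := σ.toRingEquiv) (i := algebraMap F K)
    (fun x => σ.commutes x) hfix).1 ⟨mul_mem (mul_mem hg hX) (inv_mem hg), by
      show frobPush D σ (g * X * g⁻¹) = _
      conv_rhs => rw [← hfixX]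
      rw [map_mul, map_mul, map_inv, hgn]
      group⟩
  exact ⟨⟨x₀, hx₀⟩, e⟩

/-- Elements of the finite group, seen in the frame. -/
theorem frame_mem (z : ↥(D.group F)) : g⁻¹ * emb D F K z * g ∈ D.group K ∧
    n * frobPush D σ (g⁻¹ * emb D F K z * g) = g⁻¹ * emb D F K z * g * n := by
  refine ⟨mul_mem (mul_mem (inv_mem hg) (push_mem_group h.cert _ z.2)) hg, ?_⟩
  have hz : frobPush D σ (emb D F K z) = emb D F K z :=
    ((fixed_eq_range h hinj (σ := σ.toRingEquiv) (i := algebraMap F K)
      (fun x => σ.commutes x) hfix).2 ⟨z, z.2, rfl⟩).2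
  rw [map_mul, map_mul, map_inv, hgn, hz]
  group

/-- Twisted torus elements give elements of the finite group. -/
theorem exists_emb_torus {q : ℕ} (hq : ∀ y, σ y = y ^ q) {w : Equiv.Perm (Fin D.nroots)}
    {η : Fin D.nroots → K} (hA : Acts h.cert n w η) {c : Fin D.rank → Kˣ}
    (hc : ∀ s : Fin D.nroots, chi D (w s) c = chi D s c ^ q) :
    ∃ x, emb D F K x = g * torusHom D K c * g⁻¹ := by
  refine exists_emb_eq h hinj hfix hg hgn (diagonal_le_group h.cert (torus_mem_diagonal h c)) ?_
  have hσc : frobPush D σ (torusHom D K c) = torusHom D K (c ^ (q : ℤ)) := by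
    rw [frobPush, push_torus]
    refine congrArg _ (funext fun k => Units.ext ?_)
    rw [zpow_natCast]
    exact (hq _).trans (Units.val_pow_eq_pow_val _ _).symm
  rw [hσc, mul_inv_eq_iff_eq_mul]
  exact mul_torus_eq hA fun s => by rw [chi_zpow, hc, zpow_natCast]

end Frame

/-- A torus element of `p`-power order is trivial. -/
theorem torusHom_eq_one_of_pow_char {K : Type*} [Field K] (p : ℕ) [Fact p.Prime] [CharP K p]
    {c : Fin D.rank → Kˣ} {k : ℕ} (hc : torusHom D K c ^ p ^ k = 1) : torusHom D K c = 1 := by
  rw [← map_one (torusHom D K)]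
  refine torusHom_eq_of_chi fun s => ?_
  rw [← map_pow] at hc
  have e := congrArg (fun M : GL D.Idx K => (M : Matrix D.Idx D.Idx K) (Sum.inr s) (Sum.inr s)) hc
  simp only [coe_torusHom, Units.val_one, Matrix.diagonal_apply_eq, Matrix.one_apply_eq,
    Sum.elim_inr] at e
  rw [map_pow, Units.val_pow_eq_pow_val] at e
  have h1 : ((chi D s c : Kˣ) : K) = 1 :=
    iterateFrobenius_inj K p k (by simp only [iterateFrobenius_def, one_pow]; exact e)
  rw [map_one]
  exact Units.ext h1

end CfsgLib.Chevalley.Twist
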