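import Cfsg.Agent.Lib.Chevalley.TwistH90
import Cfsg.Agent.Lib.Chevalley.TorusCentralizer
import Cfsg.Agent.Lib.Chevalley.RegularTorus
import Cfsg.Agent.Lib.Chevalley.CommAll
import Cfsg.Agent.Lib.Chevalley.SL2
import Cfsg.Agent.Lib.ReflectionsSpinor.ChevFieldCent
import Mathlib.FieldTheory.Galois.Basic

/-!
Twisted tori of Chevalley groups over finite fields: if a monomial element over the small field
with Weyl permutation `w` is a Frobenius coboundary in the group over a bigger field, the same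
holds after multiplying `w` by a reflection whose orbit under `w` is strongly orthogonal; and an
element of the corresponding twisted torus which is regular enough generates a subgroup equal to
its centraliser.
-/

set_option autoImplicit false
set_option linter.unusedSectionVars false

open Matrix
open scoped MatrixGroups

namespace CfsgLib.Chevalley.Twist

open Cfsg.Lie CfsgLib.ReflectionsSpinor.ChevField

section SlFun

variable {K G : Type*} [Field K] [DecidableEq K] [Group G] {x y : K → G}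

theorem slFun_mem {S : Subgroup G} (hx : ∀ t, x t ∈ S) (hy : ∀ t, y t ∈ S) (g : SL(2, K)) :
    slFun x y g ∈ S := by
  unfold slFun slH slN
  split_ifs <;> repeat' (first | exact hx _ | exact hy _ | apply mul_mem)

theorem slFun_slW (R : SLRel x y) : slFun x y (slW : SL(2, K)) = slN x y 1 := by
  simp [slFun, R.x_zero]

theorem slFun_map (f : K →+* K) (ψ : G →* G) (hx : ∀ t, ψ (x t) = x (f t))
    (hy : ∀ t, ψ (y t) = y (f t)) (g : SL(2, K)) :
    ψ (slFun x y g) = slFun x y (SpecialLinearGroup.map f g) := by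
  have e : ∀ i j, (SpecialLinearGroup.map f g : SL(2, K)).1 i j = f (g.1 i j) := fun _ _ => rfl
  simp only [slFun, e, map_eq_zero]
  split_ifs <;> simp [slH, slN, map_mul, hx, hy, map_neg, map_inv₀, map_div₀]

/-- Conjugation by `diag(η,1)`. -/
def conjDiag (η : Kˣ) (g : SL(2, K)) : SL(2, K) :=
  ⟨!![g.1 0 0, (η : K) * g.1 0 1; (η⁻¹ : Kˣ) * g.1 1 0, g.1 1 1], by
    have := sl_det g
    rw [Matrix.det_fin_two_of, mul_mul_mul_comm, Units.mul_inv, one_mul]
    exact this⟩

theorem slFun_scale (R : SLRel x y) (ψ : G →* G) (η : Kˣ) (hx : ∀ t, ψ (x t) = x ((η : K) * t))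
    (hy : ∀ t, ψ (y t) = y ((η⁻¹ : Kˣ) * t)) (g : SL(2, K)) :
    ψ (slFun x y g) = slFun x y (conjDiag η g) := by
  have hn : ∀ u, ψ (slN x y u) = slN x y ((η : K) * u) := fun u => by
    simp only [slN, map_mul, hx, hy, Units.val_inv_eq_inv_val, mul_inv, mul_neg]
  have hh : ∀ a, a ≠ 0 → ψ (slH x y a) = slH x y a := fun a ha => by
    have h1 := R.n1_n (η⁻¹ : Kˣ) (Units.ne_zero _)
    rw [Units.val_inv_eq_inv_val, inv_inv] at h1
    rw [slH, map_mul, hn, hn, mul_neg, mul_one, R.n_eq ((η : K) * a), mul_assoc, h1,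
      R.mulh _ _ (mul_ne_zero η.ne_zero ha) (inv_ne_zero η.ne_zero)]
    congr 1
    field_simp
  have e : ∀ i j, (conjDiag η g).1 i j =
      !![g.1 0 0, (η : K) * g.1 0 1; (η⁻¹ : Kˣ) * g.1 1 0, g.1 1 1] i j := fun _ _ => rfl
  have hη := η.ne_zero
  by_cases h : g.1 1 0 = 0
  · have hd := sl_det g
    rw [h, mul_zero, sub_zero] at hd
    have ha : g.1 0 0 ≠ 0 := left_ne_zero_of_mul_eq_one hd
    simp [slFun, e, h, map_mul, hx, hh _ ha, mul_div_assoc]
  · simp only [slFun, e, h, if_false, map_mul, hx, hn]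
    simp [h, mul_div_assoc]
    congr 3 <;> field_simp

end SlFun

variable {D : ChevalleyDatum} {A : Aux}

/-- The roots `±a` are strongly orthogonal to `±b`. -/
def orthB (D : ChevalleyDatum) (a b : ℕ) : Bool :=
  ([(a, b), (a, D.neg b), (D.neg a, b), (D.neg a, D.neg b)] : List (ℕ × ℕ)).all fun p =>
    decide (p.1 ≠ p.2) && decide (p.1 ≠ D.neg p.2) && (D.commTerms p.2 p.1).isEmpty

theorem commute_xG_of_orth {K : Type*} [Field K]
    (hD : D ∈ [chevG2, chevB2, chevD4, chevF4, chevE6, chevE7, chevE8]) (hC : Cert D A) {r s : ℕ}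
    (hr : r < D.nroots) (hs : s < D.nroots) (hsr : s ≠ r) (hn : s ≠ D.neg r)
    (he : D.commTerms r s = []) (t u : K) : Commute (xG hC s u) (xG hC r t) := by
  apply Units.ext
  have h := x_mul_x (F := K) hD hr hs hsr hn t u
  rw [show D.commWord K r s t u = [] by simp [ChevalleyDatum.commWord, he]] at h
  simpa [ChevalleyDatum.wordMat] using h

theorem exists_acts_nW_inv {F : Type*} [Field F] (h : Full D A) (l : List (Fin D.rank)) :
    ∃ η, Acts h.cert (nW h.cert F l)⁻¹ (wPerm h.cert l.reverse) η := by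
  induction l with
  | nil => exact ⟨_, by rw [nW_nil, inv_one, List.reverse_nil, wPerm_nil]; exact acts_one h.cert⟩
  | cons i l ih =>
    obtain ⟨η, hη⟩ := ih
    have e : Acts h.cert (nG h.cert (D.simple i) (-1 : F)) (rfPerm h.cert i) _ :=
      acts_nG_simple h i (neg_ne_zero.2 one_ne_zero)
    have e' := hη.mul e
    rw [← nG_inv, ← _root_.mul_inv_rev, ← nW_cons] at e'
    refine ⟨_, by rw [List.reverse_cons, wPerm_append, wPerm_cons, wPerm_nil, mul_one]; exact e'⟩

/-- The Weyl permutation of `n_r(1)` for a root `r`. -/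
theorem exists_acts_nG {F : Type*} [Field F] (h : Full D A) {l : List (Fin D.rank)}
    {i : Fin D.rank} {r : Fin D.nroots} (hr : wPerm h.cert l (smp h.cert i) = r) :
    ∃ η, Acts h.cert (nG h.cert r (1 : F)) (wPerm h.cert (l ++ i :: l.reverse)) η := by
  obtain ⟨η, hη⟩ := acts_nW (F := F) h l
  obtain ⟨η', hη'⟩ := exists_acts_nW_inv (F := F) h l
  set c := (η (smp h.cert i))⁻¹
  have e := hη.conj_nG (smp h.cert i) c
  rw [hr, mul_inv_cancel₀ (hη.ne_zero _)] at e
  have e' := (hη.mul (acts_nG_simple h i (c := c) (inv_ne_zero (hη.ne_zero _)))).mul hη'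
  refine ⟨_, by rw [← e, wPerm_append, wPerm_cons, ← mul_assoc]; exact e'⟩

variable {F K : Type*} [Field F] [Field K] [Algebra F K]

/-- Entrywise application of `σ`. -/
abbrev frobPush (D : ChevalleyDatum) (σ : K ≃ₐ[F] K) : GL D.Idx K →* GL D.Idx K :=
  push D (σ : K →+* K)

/-- Some monomial element fixed by `σ` with Weyl permutation `w` is a `σ`-coboundary. -/
def TwistWeyl (h : Full D A) (σ : K ≃ₐ[F] K) (w : Equiv.Perm (Fin D.nroots)) : Prop :=
  ∃ g ∈ D.group K, ∃ n ∈ D.group K, ∃ η, frobPush D σ n = n ∧ Acts h.cert n w η ∧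
    frobPush D σ g = g * n

theorem twistWeyl_one (h : Full D A) (σ : K ≃ₐ[F] K) : TwistWeyl h σ 1 :=
  ⟨1, one_mem _, 1, one_mem _, _, map_one _, acts_one h.cert, by rw [map_one, one_mul]⟩

theorem xG_mem_group (hC : Cert D A) {r : ℕ} (hr : r < D.nroots) (t : K) :
    xG hC r t ∈ D.group K :=
  Subgroup.subset_closure ⟨⟨r, hr⟩, t, by rw [coe_xG, ChevalleyDatum.x, dif_pos hr]⟩

theorem acts_pow {hC : Cert D A} {n : GL D.Idx K} {w : Equiv.Perm (Fin D.nroots)}
    {η : Fin D.nroots → K} (hA : Acts hC n w η) : ∀ k : ℕ, ∃ η', Acts hC (n ^ k) (w ^ k) η'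
  | 0 => ⟨_, by rw [pow_zero, pow_zero]; exact acts_one hC⟩
  | k + 1 => by
    obtain ⟨η', h'⟩ := acts_pow hA k
    exact ⟨_, by rw [pow_succ, pow_succ]; exact h'.mul hA⟩

/-- Multiplying by a reflection with strongly orthogonal orbit. -/
theorem TwistWeyl.step [Fintype F] [DecidableEq F] (h : Full D A)
    (hD : D ∈ [chevG2, chevB2, chevD4, chevF4, chevE6, chevE7, chevE8])
    {σ : K ≃ₐ[F] K} (hσ : IsOfFinOrder σ)
    (hfix : ∀ y, σ y = y → ∃ x, algebraMap F K x = y)
    {w : Equiv.Perm (Fin D.nroots)} (hw : TwistWeyl h σ w) (l : List (Fin D.rank))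
    (i : Fin D.rank) (r : Fin D.nroots) (hr : wPerm h.cert l (smp h.cert i) = r) (m : ℕ)
    (hm : 0 < m) (horb : (w ^ m) r = r)
    (horth : ∀ k, k < m → 0 < k → orthB D ((w ^ k) r : Fin D.nroots) r = true)
    (hdvd : m * Fintype.card (GL (Fin 2) F) ∣ orderOf σ) :
    TwistWeyl h σ (wPerm h.cert (l ++ i :: l.reverse) * w) := by
  classical
  obtain ⟨g, hg, n, hn, η, hnσ, hA, hgn⟩ := hw
  let x₀ : K → GL D.Idx K := fun t => xG h.cert r t
  let y₀ : K → GL D.Idx K := fun t => xG h.cert (D.neg r) t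
  have R : SLRel x₀ y₀ := slRel_root h r
  have hσx : ∀ (k : ℕ) (t : K), frobPush D σ (xG h.cert k t) = xG h.cert k (σ t) :=
    fun k t => push_xG h.cert _ k t
  let μ := SpecialLinearGroup.map (n := Fin 2) (σ : K →+* K)
  have hμ : ∀ z, frobPush D σ (slFun x₀ y₀ z) = slFun x₀ y₀ (μ z) := fun z =>
    slFun_map (σ : K →+* K) (frobPush D σ) (hσx r) (hσx (D.neg r)) z
  let θ : GL D.Idx K →* GL D.Idx K := (MulAut.conj n).toMonoidHom.comp (frobPush D σ)
  have hθ : ∀ z, θ z = n * frobPush D σ z * n⁻¹ := fun z => rfl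
  have hθk : ∀ (k : ℕ) z, θ^[k] (slFun x₀ y₀ z) =
      n ^ k * slFun x₀ y₀ (μ^[k] z) * (n ^ k)⁻¹ := by
    intro k z
    induction k with
    | zero => simp
    | succ k ih =>
      rw [Function.iterate_succ_apply', ih, hθ, map_mul, map_mul, map_inv, map_pow, hnσ, hμ,
        ← Function.iterate_succ_apply' μ, pow_succ' n k]
      simp only [_root_.mul_inv_rev, mul_assoc]
  -- the action of `n ^ m` on the rank one subgroup
  obtain ⟨ηm, hAm⟩ := acts_pow hA m
  obtain ⟨s, hs⟩ : ∃ s : Fˣ, algebraMap F K s = ηm r := by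
    have e := congrArg (fun g : GL D.Idx K => (g : Matrix D.Idx D.Idx K) (Sum.inr r) (Sum.inr r))
      (show frobPush D σ (n ^ m) = n ^ m by rw [map_pow, hnσ])
    have e' : σ (ηm r) = ηm r := by
      have e2 : ((n ^ m : GL D.Idx K) : Matrix D.Idx D.Idx K) (Sum.inr r) (Sum.inr r) = ηm r := by
        rw [hAm.col, horb, if_pos rfl]
      rw [← e2]
      exact e
    obtain ⟨s, hs⟩ := hfix _ e'
    refine ⟨Units.mk0 s fun h0 => hAm.ne_zero r ?_, hs⟩
    rw [← hs, h0, map_zero]
  let s' : Kˣ := Units.map (algebraMap F K : F →* K) s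
  have hs' : (s' : K) = ηm r := hs
  have hscale : ∀ z, n ^ m * slFun x₀ y₀ z * (n ^ m)⁻¹ = slFun x₀ y₀ (conjDiag s' z) := by
    intro z
    refine slFun_scale R (MulAut.conj (n ^ m)).toMonoidHom s' (fun t => ?_) (fun t => ?_) z
    · show n ^ m * xG h.cert r t * (n ^ m)⁻¹ = xG h.cert r _
      rw [hAm.conj, horb, hs']
    · show n ^ m * xG h.cert (ngR h.cert r) t * (n ^ m)⁻¹ = xG h.cert (D.neg r) _
      rw [hAm.conj, hAm.neg, horb, Units.val_inv_eq_inv_val, hs',
        eq_inv_of_mul_eq_one_right (hAm.inv r)]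
      rfl
  -- the translates commute
  have hcomm : ∀ k, k < m → 0 < k → ∀ z z', Commute (θ^[k] (slFun x₀ y₀ z)) (slFun x₀ y₀ z') := by
    intro k hkm hk0 z z'
    rw [hθk]
    obtain ⟨ηk, hAk⟩ := acts_pow hA k
    generalize μ^[k] z = u
    have ho := horth k hkm hk0
    simp only [orthB, List.all_cons, List.all_nil, Bool.and_true, Bool.and_eq_true,
      decide_eq_true_eq, List.isEmpty_iff] at ho
    obtain ⟨⟨⟨h11, h12⟩, h13⟩, ⟨⟨h21, h22⟩, h23⟩, ⟨⟨h31, h32⟩, h33⟩, ⟨⟨h41, h42⟩, h43⟩⟩ := ho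
    have hnr : D.neg r < D.nroots := h.cert.wf.neg_lt r r.isLt
    have hnw : D.neg ((w ^ k) r : Fin D.nroots) = (w ^ k) (ngR h.cert r) :=
      (congrArg Fin.val (hAk.neg r)).symm
    rw [hnw] at h31 h32 h33 h41 h42 h43
    have h1 : ∀ (a : Fin D.nroots), a = r ∨ a = ngR h.cert r → ∀ t t' : K,
        Commute (n ^ k * xG h.cert a t * (n ^ k)⁻¹) (x₀ t') ∧
        Commute (n ^ k * xG h.cert a t * (n ^ k)⁻¹) (y₀ t') := by
      intro a ha t t'
      rw [hAk.conj]
      rcases ha with rfl | rfl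
      · exact ⟨commute_xG_of_orth hD h.cert a.isLt (Fin.isLt _) h11 h12 h13 _ _,
          commute_xG_of_orth hD h.cert hnr (Fin.isLt _) h21 h22 h23 _ _⟩
      · exact ⟨commute_xG_of_orth hD h.cert r.isLt (Fin.isLt _) h31 h32 h33 _ _,
          commute_xG_of_orth hD h.cert hnr (Fin.isLt _) h41 h42 h43 _ _⟩
    have h2 : ∀ (a : Fin D.nroots), a = r ∨ a = ngR h.cert r → ∀ t : K,
        Commute (n ^ k * xG h.cert a t * (n ^ k)⁻¹) (slFun x₀ y₀ z') := by
      intro a ha t
      refine Subgroup.mem_centralizer_singleton_iff.1 ?_ |> Eq.symm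
      exact slFun_mem (fun t' => Subgroup.mem_centralizer_singleton_iff.2 (h1 a ha t t').1.eq.symm)
        (fun t' => Subgroup.mem_centralizer_singleton_iff.2 (h1 a ha t t').2.eq.symm) z'
    have h3 : slFun x₀ y₀ u ∈ (Subgroup.centralizer {slFun x₀ y₀ z'}).comap
        (MulAut.conj (n ^ k)).toMonoidHom :=
      slFun_mem
        (fun t => Subgroup.mem_comap.2
          (Subgroup.mem_centralizer_singleton_iff.2 (h2 r (Or.inl rfl) t).eq))
        (fun t => Subgroup.mem_comap.2 (Subgroup.mem_centralizer_singleton_iff.2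
          (h2 (ngR h.cert r) (Or.inr rfl) t).eq)) u
    exact Subgroup.mem_centralizer_singleton_iff.1 h3
  -- solve the rank one equation
  have hord : Fintype.card (GL (Fin 2) F) ∣ orderOf (σ ^ m) := by
    rw [orderOf_pow' σ hm.ne', Nat.gcd_eq_right (dvd_trans (dvd_mul_right m _) hdvd)]
    exact (Nat.dvd_div_iff_mul_dvd (dvd_trans (dvd_mul_right m _) hdvd)).2 hdvd
  obtain ⟨x, hx⟩ := exists_twist_sl2 (σ ^ m) hσ.pow hord s
  have hμm : ∀ (k : ℕ), ((μ^[k] x : SL(2, K)) : Matrix (Fin 2) (Fin 2) K) =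
      (x : Matrix (Fin 2) (Fin 2) K).map ⇑(σ ^ k) := by
    intro k
    induction k with
    | zero => ext a b; simp
    | succ k ih =>
      rw [Function.iterate_succ_apply']
      ext a b
      show σ ((μ^[k] x : SL(2, K)).1 a b) = (σ ^ (k + 1)) (x.1 a b)
      rw [pow_succ', AlgEquiv.mul_apply, ih]
      rfl
  have hxm : conjDiag s' (μ^[m] x) = x * slW := by
    apply Subtype.ext
    have hK : (algebraMap F K) (s : F) ≠ 0 := by simp
    have hs'' : (s' : K) = algebraMap F K s := rfl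
    show !![(μ^[m] x).1 0 0, (s' : K) * (μ^[m] x).1 0 1; (s'⁻¹ : Kˣ) * (μ^[m] x).1 1 0,
      (μ^[m] x).1 1 1] = x.1 * slW.1
    rw [slW_coe, Units.val_inv_eq_inv_val, hs'', hμm, hx]
    ext a b
    fin_cases a <;> fin_cases b <;>
      simp [Matrix.mul_apply, Matrix.vecMul, dotProduct, Fin.sum_univ_two] <;> field_simp
  set v := slFun x₀ y₀ x with hv
  let P : ℕ → GL D.Idx K := fun j => Nat.rec 1 (fun k acc => acc * θ^[k + 1] v) j
  have hP : ∀ j, θ v * θ (P j) = P j * θ^[j + 1] v := by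
    intro j
    induction j with
    | zero => simp [P]
    | succ j ih =>
      show θ v * θ (P j * θ^[j + 1] v) = P j * θ^[j + 1] v * θ^[j + 2] v
      rw [map_mul, ← mul_assoc, ih, Function.iterate_succ_apply' θ (j + 1)]
  have hPc : ∀ j, j < m → ∀ z, Commute (P j) (slFun x₀ y₀ z) := by
    intro j hj z
    induction j with
    | zero => exact Commute.one_left _
    | succ j ih => exact (ih (by omega)).mul_left (hcomm (j + 1) hj (by omega) x z)
  obtain ⟨m, rfl⟩ : ∃ k, m = k + 1 := ⟨m - 1, by omega⟩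
  set a := v * P m with ha
  have hθa : θ a = a * slFun x₀ y₀ slW := by
    rw [ha, map_mul, hP, hv, hθk, hscale, hxm,
      show slFun x₀ y₀ (x * slW) = slFun x₀ y₀ x * slFun x₀ y₀ slW from slFun_mul R x slW,
      ← mul_assoc, (hPc m (by omega) x).eq]
  rw [slFun_slW R] at hθa
  obtain ⟨η', hA'⟩ := exists_acts_nG (F := K) h hr
  have hnr : ∀ t : K, nG h.cert r t ∈ D.group K := fun t =>
    mul_mem (mul_mem (xG_mem_group h.cert r.isLt _)
      (xG_mem_group h.cert (h.cert.wf.neg_lt r r.isLt) _)) (xG_mem_group h.cert r.isLt _)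
  have hθ' : ∀ z ∈ D.group K, θ z ∈ D.group K := fun z hz =>
    mul_mem (mul_mem hn (push_mem_group h.cert _ hz)) (inv_mem hn)
  have hvmem : v ∈ D.group K := slFun_mem (fun t => xG_mem_group h.cert r.isLt t)
    (fun t => xG_mem_group h.cert (h.cert.wf.neg_lt r r.isLt) t) x
  have hθj : ∀ j, θ^[j] v ∈ D.group K := fun j => by
    induction j with
    | zero => exact hvmem
    | succ j ih => rw [Function.iterate_succ_apply']; exact hθ' _ ih
  have hPmem : ∀ j, P j ∈ D.group K := fun j => by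
    induction j with
    | zero => exact one_mem _
    | succ j ih => exact mul_mem ih (hθj _)
  refine ⟨g * a, mul_mem hg (mul_mem hvmem (hPmem m)), nG h.cert r 1 * n,
    mul_mem (hnr 1) hn, _, ?_, hA'.mul hA, ?_⟩
  · rw [map_mul, hnσ, push_nG, map_one]
  · rw [map_mul, hgn]
    rw [hθ] at hθa
    calc g * n * frobPush D σ a = g * (n * frobPush D σ a * n⁻¹) * n := by group
      _ = _ := by rw [hθa]; simp only [mul_assoc]; rfl

end CfsgLib.Chevalley.Twist
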