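import Cfsg.Agent.Lib.Chevalley.TwistedTorus

/-!
A twisted torus element which is regular enough generates a self-centralising cyclic subgroup.
-/

set_option autoImplicit false
set_option linter.unusedSectionVars false

open Matrix

namespace CfsgLib.Chevalley.Twist

open Cfsg.Lie CfsgLib.ReflectionsSpinor.ChevField

variable {D : ChevalleyDatum} {A : Aux}

section

variable {K : Type*} [Field K]

theorem torusHom_eq_of_chi {c c' : Fin D.rank → Kˣ}
    (h : ∀ s : Fin D.nroots, chi D s c = chi D s c') : torusHom D K c = torusHom D K c' := by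
  apply Units.ext
  rw [coe_torusHom, coe_torusHom]
  simp only [h]

theorem chi_zpow (s : Fin D.nroots) (c : Fin D.rank → Kˣ) (j : ℤ) :
    chi D s (c ^ j) = chi D s c ^ j :=
  map_zpow _ _ _

/-- Carrying a torus element through a monomial element. -/
theorem mul_torus_eq {hC : Cert D A} {n : GL D.Idx K} {w : Equiv.Perm (Fin D.nroots)}
    {η : Fin D.nroots → K} (hA : Acts hC n w η) {c c' : Fin D.rank → Kˣ}
    (h : ∀ s : Fin D.nroots, chi D (w s) c' = chi D s c) :
    n * torusHom D K c = torusHom D K c' * n := by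
  apply Units.ext
  simp only [Units.val_mul, coe_torusHom]
  ext a b
  rw [Matrix.mul_diagonal, Matrix.diagonal_mul]
  rcases b with j | s
  · rcases a with k | s
    · simp
    · simp [hA.row]
  · rw [hA.col]
    split_ifs with e
    · subst e
      simp [h, mul_comm]
    · simp

theorem chi_of_mul_torus_eq {hC : Cert D A} {n : GL D.Idx K} {w : Equiv.Perm (Fin D.nroots)}
    {η : Fin D.nroots → K} (hA : Acts hC n w η) {c c' : Fin D.rank → Kˣ}
    (h : n * torusHom D K c = torusHom D K c' * n) (s : Fin D.nroots) :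
    chi D (w s) c' = chi D s c := by
  have e := congrArg (fun g : GL D.Idx K => (g : Matrix D.Idx D.Idx K) (Sum.inr (w s)) (Sum.inr s)) h
  simp only [Units.val_mul, coe_torusHom, Matrix.mul_diagonal, Matrix.diagonal_mul, hA.col,
    if_true, Sum.elim_inr] at e
  rw [mul_comm] at e
  exact Units.ext (mul_right_cancel₀ (hA.ne_zero s) e).symm

/-- The order of a torus element. -/
theorem orderOf_torusHom (h : Full D A) {c : Fin D.rank → Kˣ} {α : Kˣ} (e : Fin D.nroots → ℤ)
    (he : ∀ s : Fin D.nroots, chi D s c = α ^ e s) {r₀ : Fin D.nroots} (hr₀ : chi D r₀ c = α) :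
    orderOf (torusHom D K c) = orderOf α := by
  refine orderOf_eq_orderOf_iff.2 fun k => ?_
  rw [← map_pow, ← zpow_natCast c k]
  constructor
  · intro hk
    have e1 := congrArg
      (fun g : GL D.Idx K => (g : Matrix D.Idx D.Idx K) (Sum.inr r₀) (Sum.inr r₀)) hk
    simp only [coe_torusHom, Units.val_one, Matrix.diagonal_apply_eq, Matrix.one_apply_eq,
      Sum.elim_inr] at e1
    rw [chi_zpow, hr₀, zpow_natCast] at e1
    exact Units.ext e1
  · intro hk
    rw [← map_one (torusHom D K)]
    refine torusHom_eq_of_chi fun s => ?_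
    rw [chi_zpow, he, ← _root_.zpow_mul, mul_comm, _root_.zpow_mul, zpow_natCast, hk, _root_.one_zpow]
    exact (map_one _).symm

end

variable {F K : Type*} [Field F] [Field K] [Algebra F K]

/-- A regular enough element of the torus twisted by `w` generates its own centraliser. -/
theorem exists_selfCentralizing_of_twist (h : Full D A)
    (hinj : Function.Injective (torusHom D K)) {σ : K ≃ₐ[F] K}
    (hfix : ∀ y, σ y = y → ∃ x, algebraMap F K x = y) {q : ℕ} (hq : ∀ y, σ y = y ^ q)
    {w : Equiv.Perm (Fin D.nroots)} (hw : TwistWeyl h σ w) (c : Fin D.rank → Kˣ)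
    (hc : ∀ s : Fin D.nroots, chi D (w s) c = chi D s c ^ q)
    (h1 : ∀ s : Fin D.nroots, chi D s c ≠ 1)
    (hstab : ∀ (n : GL D.Idx K) (π : Equiv.Perm (Fin D.nroots)) (η : Fin D.nroots → K),
      Acts h.cert n π η → (∀ s : Fin D.nroots, chi D (π s) c = chi D s c) → π = 1)
    (hcyc : ∀ c' : Fin D.rank → Kˣ, (∀ s : Fin D.nroots, chi D (w s) c' = chi D s c' ^ q) →
      ∃ j : ℤ, ∀ s : Fin D.nroots, chi D s c' = chi D s c ^ j) :
    ∃ H : Subgroup ↥(D.group F), IsCyclic ↥H ∧ Nat.card ↥H = orderOf (torusHom D K c) ∧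
      Subgroup.centralizer (H : Set ↥(D.group F)) = H := by
  obtain ⟨g, hg, n, -, η, -, hA, hgn⟩ := hw
  set T := torusHom D K c with hT
  have hσc : ∀ c' : Fin D.rank → Kˣ, frobPush D σ (torusHom D K c') =
      torusHom D K (c' ^ (q : ℤ)) := by
    intro c'
    rw [frobPush, push_torus]
    refine congrArg _ (funext fun k => Units.ext ?_)
    rw [zpow_natCast]
    exact (hq _).trans (Units.val_pow_eq_pow_val _ _).symm
  have hTn : n * frobPush D σ T * n⁻¹ = T := by
    rw [hT, hσc, mul_inv_eq_iff_eq_mul]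
    exact mul_torus_eq hA fun s => by rw [chi_zpow, hc, zpow_natCast]
  have hdiag : T ∈ D.diagonalSubgroup K := torus_mem_diagonal h c
  have hX : g * T * g⁻¹ ∈ D.group K :=
    mul_mem (mul_mem hg (diagonal_le_group h.cert hdiag)) (inv_mem hg)
  obtain ⟨x₀, hx₀, hx₀X⟩ := (fixed_eq_range h hinj (σ := σ.toRingEquiv) (i := algebraMap F K)
    (fun x => σ.commutes x) hfix).1 ⟨hX, by
      show frobPush D σ (g * T * g⁻¹) = _
      conv_rhs => rw [← hTn]
      rw [map_mul, map_mul, map_inv, hgn]
      group⟩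
  let φ : ↥(D.group F) →* GL D.Idx K := (push D (algebraMap F K)).comp (D.group F).subtype
  have hφ : Function.Injective φ := (push_injective _).comp Subtype.val_injective
  set x : ↥(D.group F) := ⟨x₀, hx₀⟩
  have hφx : φ x = g * T * g⁻¹ := hx₀X
  refine ⟨Subgroup.zpowers x, inferInstance, ?_, le_antisymm ?_ ?_⟩
  · rw [Nat.card_zpowers, ← orderOf_injective φ hφ, hφx,
      ← MulEquiv.orderOf_eq (MulAut.conj g) T]
    rfl
  · intro z hz
    have hzc : Commute (φ x) (φ z) :=
      Commute.map (show Commute x z from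
        Subgroup.mem_centralizer_iff.1 hz _ (Subgroup.mem_zpowers _)) φ
    set y := g⁻¹ * φ z * g with hy
    have hy' : φ z = g * y * g⁻¹ := by rw [hy]; group
    have hymem : y ∈ D.group K :=
      mul_mem (mul_mem (inv_mem hg) (push_mem_group h.cert _ z.2)) hg
    have hyc : Commute T y := by
      have := hzc.map (MulAut.conj g⁻¹).toMonoidHom
      have e1 : (MulAut.conj g⁻¹).toMonoidHom (φ x) = T := by
        show g⁻¹ * φ x * g⁻¹⁻¹ = T
        rw [hφx]; group
      have e2 : (MulAut.conj g⁻¹).toMonoidHom (φ z) = y := by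
        show g⁻¹ * φ z * g⁻¹⁻¹ = y
        rw [hy, inv_inv]
      rwa [e1, e2] at this
    obtain ⟨u, hu, m, hm, π, ηm, hAm, hchi, u', hu', e⟩ := exists_of_commute_torus h hymem hyc
    have htriv : rootsU D K {r | D.IsPosRoot r ∧ chi D r c = 1} ≤ ⊥ := by
      rw [rootsU_le_iff h.cert]
      intro r hr t
      exact absurd hr.2 (h1 ⟨r, hr.1.1⟩)
    rw [Subgroup.mem_bot.1 (htriv hu), Subgroup.mem_bot.1 (htriv hu'), one_mul, mul_one] at e
    have hπ := hstab m π ηm hAm hchi
    subst hπ
    have hmd : m ∈ D.diagonalSubgroup K :=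
      mem_diagonal_of_perm h hm hAm fun i => h.simple_pos i.isLt
    rw [diagonalSubgroup_eq_range h] at hmd
    obtain ⟨c', hc'⟩ := hmd
    rw [← hc'] at e
    have hzfix : frobPush D σ (φ z) = φ z :=
      ((fixed_eq_range h hinj (σ := σ.toRingEquiv) (i := algebraMap F K)
        (fun x => σ.commutes x) hfix).2 ⟨z, z.2, rfl⟩).2
    have hyfix : n * frobPush D σ y = y * n := by
      rw [hy', map_mul, map_mul, map_inv, hgn] at hzfix
      have := congrArg (fun v => g⁻¹ * v * (g * n)) hzfix
      simpa [mul_assoc] using this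
    rw [e, hσc] at hyfix
    obtain ⟨j, hj⟩ := hcyc c' fun s => by
      rw [chi_of_mul_torus_eq hA hyfix s, chi_zpow, zpow_natCast]
    refine Subgroup.mem_zpowers_iff.2 ⟨j, hφ ?_⟩
    rw [map_zpow, hφx, hy', e, conj_zpow, hT, ← map_zpow]
    congr 2
    exact torusHom_eq_of_chi fun s => by rw [chi_zpow, hj]
  · intro z hz
    rw [Subgroup.mem_centralizer_iff]
    intro y hy
    obtain ⟨i, rfl⟩ := Subgroup.mem_zpowers_iff.1 hz
    obtain ⟨j, rfl⟩ := Subgroup.mem_zpowers_iff.1 (SetLike.mem_coe.1 hy)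
    exact ((Commute.refl _).zpow_zpow j i).eq

end CfsgLib.Chevalley.Twist
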